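import Cfsg.Agent.H706.PB.Defs
import Cfsg.Agent.Blocks.FullDefect
import Cfsg.Agent.Blocks.Osima
import Cfsg.Agent.Blocks.Orthogonality
import Cfsg.Agent.Blocks.PrincipalSection
import Cfsg.Agent.S0909
import Cfsg.Agent.H893.Sd.MemIff
import Cfsg.Agent.H734.RB.Cyc
import Cfsg.Agent.Characters.GaloisIrr
import Cfsg.Agent.H593.GlaubermanP

/-!
# S4884: the tool `RowRho.of_cyclic` (helper723)

`RowRho q S` : `B_0(2) ∩ B_0(q)` contains a nontrivial character of degree prime to `2 q` which is invariant under the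
Galois automorphism `ρ` (identity on the roots of unity of `q`-power order, inversion on those of order prime to `q`).

`RowRho.of_cyclic` : true if a Sylow `q`-subgroup is cyclic, nontrivial and some 2-subgroup `A` has a centralizer of
order prime to `q`.
-/

set_option autoImplicit false
set_option linter.unusedSectionVars false

open Subgroup Cfsg
open scoped ComplexConjugate

namespace Cfsg.Agent.H723.PB

open Cfsg.Agent.Blocks Cfsg.Agent.Blocks.Local Cfsg.Agent.Blocks.Blau Cfsg.Agent.Characters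

universe u v

/-- invariance under `ρ` -/
def RhoInv (q : ℕ) {S : Type u} [Group S] (f : S → ℂ) : Prop :=
  ∀ m : ℕ, (∀ x : S, (∃ k : ℕ, x ^ q ^ k = 1) → x ^ m = x) → (∀ x : S, ¬ q ∣ orderOf x → x ^ m = x⁻¹) →
    ∀ g : S, f (g ^ m) = f g

/-- a nontrivial `ρ`-invariant character of degree prime to `2 q` in the intersection of the principal `2`- and
`q`-blocks -/
def RowRho (q : ℕ) (S : Type u) [Group S] : Prop :=
  ∀ M2 Mq : Ideal AlgInt, IsPModular 2 M2 → IsPModular q Mq → ∃ θ : IrrCharacter S,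
    θ ∈ principalBlock M2 S ∧ θ ∈ principalBlock Mq S ∧
    (θ : S → ℂ) ≠ (fun _ => (1 : ℂ)) ∧ ¬ 2 ∣ charDegree (θ : S → ℂ) ∧ ¬ q ∣ charDegree (θ : S → ℂ) ∧
    RhoInv q (θ : S → ℂ)

theorem RowRho.rowB {q : ℕ} {S : Type u} [Group S] (h : RowRho q S) : Cfsg.Agent.H706.PB.RowB q S := by
  intro M2 Mq h2 hq
  obtain ⟨θ, h3, h4, h5, h6, h7, -⟩ := h M2 Mq h2 hq
  exact ⟨θ, h3, h4, h5, h6, h7⟩

section power

variable {S : Type u} [Group S]

/-- exponents are determined by their action on the `q`-elements and on the `q`-regular elements -/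
theorem pow_ext [Finite S] {q : ℕ} (hq : q.Prime) {m n : ℕ} (h1 : ∀ x : S, (∃ k : ℕ, x ^ q ^ k = 1) → x ^ m = x ^ n)
    (h2 : ∀ x : S, ¬ q ∣ orderOf x → x ^ m = x ^ n) (g : S) : g ^ m = g ^ n := by
  obtain ⟨k, l, hl, ho⟩ := Nat.exists_eq_pow_mul_and_not_dvd (orderOf_pos g).ne' q hq.ne_one
  have hc : Nat.Coprime l (q ^ k) := ((Nat.Prime.coprime_iff_not_dvd hq).2 hl).symm.pow_right k
  have e1 : (g ^ l) ^ m = (g ^ l) ^ n := h1 _ ⟨k, by rw [← pow_mul, mul_comm, ← ho, pow_orderOf_eq_one]⟩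
  have e2 : (g ^ q ^ k) ^ m = (g ^ q ^ k) ^ n := by
    apply h2
    rw [orderOf_pow' g (pow_ne_zero _ hq.ne_zero), ho, Nat.gcd_eq_right (Dvd.intro _ rfl),
      Nat.mul_div_cancel_left _ (pow_pos hq.pos k)]
    exact hl
  have hb : (l : ℤ) * Nat.gcdA l (q ^ k) + ((q ^ k : ℕ) : ℤ) * Nat.gcdB l (q ^ k) = 1 := by
    rw [← Nat.gcd_eq_gcd_ab, hc]
    rfl
  have key : ∀ a : ℕ, g ^ a = ((g ^ l) ^ a) ^ (Nat.gcdA l (q ^ k)) * ((g ^ q ^ k) ^ a) ^ (Nat.gcdB l (q ^ k)) := by
    intro a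
    rw [← pow_mul, ← pow_mul, ← zpow_natCast g (l * a), ← zpow_natCast g (q ^ k * a), ← zpow_mul, ← zpow_mul, ← zpow_add]
    rw [← zpow_natCast g a]
    congr 1
    have hb' := hb
    push_cast at hb' ⊢
    linear_combination -(a : ℤ) * hb'
  rw [key m, key n, e1, e2]

/-- the exponent of `ρ` -/
theorem exists_exp [Finite S] {q : ℕ} (hq : q.Prime) : ∃ m : ℕ, m.Coprime (Nat.card S) ∧
    (∀ x : S, (∃ k : ℕ, x ^ q ^ k = 1) → x ^ m = x) ∧ (∀ x : S, ¬ q ∣ orderOf x → x ^ m = x⁻¹) := by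
  obtain ⟨k, l, hl, ho⟩ := Nat.exists_eq_pow_mul_and_not_dvd (Nat.card_pos (α := S)).ne' q hq.ne_one
  have hc : Nat.Coprime (q ^ k) l := ((Nat.Prime.coprime_iff_not_dvd hq).2 hl).pow_left k
  have hl0 : 0 < l := Nat.pos_of_ne_zero fun h => hl (h ▸ dvd_zero q)
  obtain ⟨m, hm1, hm2⟩ := Nat.chineseRemainder hc 1 (l - 1)
  have hm3 : m + 1 ≡ 0 [MOD l] := by
    have h := hm2.add_right 1
    rw [Nat.sub_add_cancel hl0] at h
    exact h.trans (by simp [Nat.ModEq])
  have hml : m.Coprime l := by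
    have h1 : Nat.gcd m l ∣ m + 1 := (Nat.gcd_dvd_right m l).trans ((Nat.modEq_zero_iff_dvd).1 hm3)
    have h2 : Nat.gcd m l ∣ 1 := (Nat.dvd_add_right (Nat.gcd_dvd_left m l)).1 h1
    exact Nat.dvd_one.1 h2
  have hmq : m.Coprime (q ^ k) := by
    have h := hm1.gcd_eq
    rw [Nat.gcd_one_left] at h
    exact h
  refine ⟨m, by rw [ho]; exact hmq.mul_right hml, fun x hx => ?_, fun x hx => ?_⟩
  · obtain ⟨j, hj⟩ := hx
    have h1 : orderOf x ∣ q ^ k := by
      have h2 : orderOf x ∣ q ^ k * l := ho ▸ orderOf_dvd_natCard x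
      refine Nat.Coprime.dvd_of_dvd_mul_right ?_ h2
      exact Nat.Coprime.coprime_dvd_left (orderOf_dvd_of_pow_eq_one hj) (((Nat.Prime.coprime_iff_not_dvd hq).2 hl).pow_left j)
    have h3 := (pow_eq_pow_iff_modEq (x := x) (n := m) (m := 1)).2 (hm1.of_dvd h1)
    rwa [pow_one] at h3
  · have h1 : orderOf x ∣ l := by
      have h2 : orderOf x ∣ q ^ k * l := ho ▸ orderOf_dvd_natCard x
      refine Nat.Coprime.dvd_of_dvd_mul_left ?_ h2
      exact ((Nat.Prime.coprime_iff_not_dvd hq).2 hx).symm.pow_right k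
    have h3 := (pow_eq_pow_iff_modEq (x := x) (n := m + 1) (m := 0)).2 (hm3.of_dvd h1)
    rw [pow_zero, pow_succ] at h3
    exact eq_inv_of_mul_eq_one_left h3

end power

/-- a sum over a finite set with an involution -/
theorem sum_inv {M2 : Ideal AlgInt} (hM2 : IsPModular 2 M2) {ι : Type v} [DecidableEq ι] (σ : ι → ι) (f : ι → ℂ) (n : ℕ) :
    ∀ s : Finset ι, s.card = n → (∀ x ∈ s, σ x ∈ s) → (∀ x ∈ s, σ (σ x) = x) → (∀ x ∈ s, f (σ x) = f x) →
    (∀ x ∈ s, MemLocalRing M2 (f x)) → (∀ x ∈ s, σ x = x → MemLocalIdeal M2 (f x)) → MemLocalIdeal M2 (∑ x ∈ s, f x) := by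
  have hM2p := isPrime_of_isPModular hM2
  induction n using Nat.strong_induction_on with
  | _ n ih =>
    intro s hs h1 h2 h3 h4 h5
    rcases s.eq_empty_or_nonempty with rfl | ⟨x, hx⟩
    · rw [Finset.sum_empty]
      exact memLocalIdeal_zero
    by_cases hfx : σ x = x
    · rw [← Finset.add_sum_erase _ _ hx]
      refine memLocalIdeal_add (h5 x hx hfx) ?_
      refine ih (s.erase x).card (by rw [← hs]; exact Finset.card_erase_lt_of_mem hx) _ rfl ?_ ?_ ?_ ?_ ?_
      · intro y hy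
        obtain ⟨hne, hy'⟩ := Finset.mem_erase.1 hy
        refine Finset.mem_erase.2 ⟨fun h => hne ?_, h1 y hy'⟩
        rw [← h2 y hy', h, hfx]
      · exact fun y hy => h2 y (Finset.mem_of_mem_erase hy)
      · exact fun y hy => h3 y (Finset.mem_of_mem_erase hy)
      · exact fun y hy => h4 y (Finset.mem_of_mem_erase hy)
      · exact fun y hy => h5 y (Finset.mem_of_mem_erase hy)
    · have hx2 : σ x ∈ s.erase x := Finset.mem_erase.2 ⟨hfx, h1 x hx⟩
      rw [← Finset.add_sum_erase _ _ hx, ← Finset.add_sum_erase _ _ hx2, ← add_assoc, h3 x hx]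
      refine memLocalIdeal_add ?_ ?_
      · rw [← two_mul]
        refine memLocalIdeal_mul_right ?_ (h4 x hx)
        exact_mod_cast (memLocalIdeal_natCast_iff hM2 2).2 dvd_rfl
      · have hlt : ((s.erase x).erase (σ x)).card < n := by
          rw [← hs]
          exact (Finset.card_erase_lt_of_mem hx2).trans (Finset.card_erase_lt_of_mem hx)
        have hsub : ∀ y, y ∈ (s.erase x).erase (σ x) → y ∈ s := fun y hy =>
          Finset.mem_of_mem_erase (Finset.mem_of_mem_erase hy)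
        refine ih _ hlt _ rfl ?_ ?_ ?_ ?_ ?_
        · intro y hy
          have hy' := hsub y hy
          obtain ⟨hne2, hy1⟩ := Finset.mem_erase.1 hy
          obtain ⟨hne1, -⟩ := Finset.mem_erase.1 hy1
          refine Finset.mem_erase.2 ⟨fun h => hne1 ?_, Finset.mem_erase.2 ⟨fun h => hne2 ?_, h1 y hy'⟩⟩
          · rw [← h2 y hy', h, h2 x hx]
          · rw [← h2 y hy', h]
        · exact fun y hy => h2 y (hsub y hy)
        · exact fun y hy => h3 y (hsub y hy)
        · exact fun y hy => h4 y (hsub y hy)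
        · exact fun y hy => h5 y (hsub y hy)

section blocks

variable {S : Type u} [Group S] [Finite S]

/-- the Galois conjugate -/
noncomputable def tw {m : ℕ} (hm : m.Coprime (Nat.card S)) (χ : IrrCharacter S) : IrrCharacter S :=
  ⟨fun g => (χ : S → ℂ) (g ^ m), GaloisIrr.isIrr_pow hm χ.2⟩

theorem bij_pow {m : ℕ} (hm : m.Coprime (Nat.card S)) : Function.Bijective fun g : S => g ^ m :=
  (powCoprime hm.symm).bijective

theorem orderOf_pow_coprime' {m : ℕ} (hm : m.Coprime (Nat.card S)) (g : S) : orderOf (g ^ m) = orderOf g :=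
  Nat.Coprime.orderOf_pow (Nat.Coprime.coprime_dvd_right (orderOf_dvd_natCard g) hm).symm

theorem tw_mem {p : ℕ} [Fact p.Prime] {M : Ideal AlgInt} (hM : IsPModular p M) {m : ℕ} (hm : m.Coprime (Nat.card S))
    {χ : IrrCharacter S} (h : χ ∈ principalBlock M S) : tw hm χ ∈ principalBlock M S := by
  classical
  have := Fintype.ofFinite S
  rw [H893.Sd.mem_iff hM] at h ⊢
  have h1 : ∑ g : S, regPart p ((tw hm χ : IrrCharacter S) : S → ℂ) g = ∑ g : S, regPart p (χ : S → ℂ) g := by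
    refine Fintype.sum_bijective _ (bij_pow hm) _ _ fun g => ?_
    by_cases hg : p ∣ orderOf g
    · rw [regPart_of_dvd hg, regPart_of_dvd (by rwa [orderOf_pow_coprime' hm])]
    · rw [regPart_of_not_dvd hg, regPart_of_not_dvd (by rwa [orderOf_pow_coprime' hm])]
      rfl
  rwa [h1]

theorem deg_tw {m : ℕ} (hm : m.Coprime (Nat.card S)) (χ : IrrCharacter S) :
    charDegree ((tw hm χ : IrrCharacter S) : S → ℂ) = charDegree (χ : S → ℂ) := by
  refine Blocks.Basic.charDegree_of_eq ?_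
  show (χ : S → ℂ) (1 ^ m) = _
  rw [one_pow, Blocks.Basic.irr_one_eq_charDegree χ.2]

/-- some nontrivial `ρ`-invariant character of odd degree in the principal `q`-block -/
theorem exists_rho {q : ℕ} (hq : q.Prime) (hdvd : q ∣ Nat.card S) {Mq : Ideal AlgInt}
    (hMq : IsPModular q Mq) {M2 : Ideal AlgInt} (hM2 : IsPModular 2 M2) {m : ℕ} (hm : m.Coprime (Nat.card S))
    (hm1 : ∀ x : S, (∃ k : ℕ, x ^ q ^ k = 1) → x ^ m = x) (hm2 : ∀ x : S, ¬ q ∣ orderOf x → x ^ m = x⁻¹) :
    ∃ χ : IrrCharacter S, χ ∈ principalBlock Mq S ∧ (χ : S → ℂ) ≠ (fun _ => (1 : ℂ)) ∧ ¬ 2 ∣ charDegree (χ : S → ℂ) ∧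
      tw hm χ = χ := by
  classical
  have hqF : Fact q.Prime := ⟨hq⟩
  have h2F : Fact (Nat.Prime 2) := ⟨Nat.prime_two⟩
  have hMp := isPrime_of_isPModular hMq
  have hM2p := isPrime_of_isPModular hM2
  have hfin : Finite (IrrCharacter S) := S0909.finite_irr
  have := Fintype.ofFinite (IrrCharacter S)
  obtain ⟨y, hy⟩ := exists_prime_orderOf_dvd_card' q hdvd
  have hym : y ^ m = y := hm1 y ⟨1, by rw [pow_one, ← hy, pow_orderOf_eq_one]⟩
  by_contra hcon
  push Not at hcon
  have h1 := Orthogonality.weak_block_orthogonality hMq (principalBlock Mq S) (fun g =>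
    Osima.memLocalRing_blockCoeff hMq PrincipalSection.isPBlock_principalBlock g)
    (x := (1 : S)) (y := y) (by rw [orderOf_one]; exact hq.one_lt.not_ge ∘ Nat.le_of_dvd one_pos) (by rw [hy])
  rw [Orthogonality.finsum_mem_eq_sum_filter] at h1
  let one : IrrCharacter S := ⟨_, Blocks.Basic.isIrrCharacter_one⟩
  have hone : one ∈ Finset.univ.filter (fun χ : IrrCharacter S => χ ∈ principalBlock Mq S) := by
    rw [Finset.mem_filter]
    exact ⟨Finset.mem_univ _, PrincipalSection.one_mem_principalBlock⟩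
  rw [← Finset.add_sum_erase _ _ hone] at h1
  have hmm : ∀ g : S, (g ^ m) ^ m = g := by
    intro g
    have h := pow_ext hq (m := m * m) (n := 1) (fun x hx => by rw [pow_mul, hm1 x hx, hm1 x hx, pow_one])
      (fun x hx => by rw [pow_mul, hm2 x hx, inv_pow, hm2 x hx, inv_inv, pow_one]) g
    rwa [pow_mul, pow_one] at h
  have htt : ∀ χ : IrrCharacter S, tw hm (tw hm χ) = χ := fun χ => Subtype.ext (funext fun g => by
    show (χ : S → ℂ) ((g ^ m) ^ m) = _
    rw [hmm])
  have h2 : MemLocalIdeal M2 (∑ χ ∈ (Finset.univ.filter (fun χ : IrrCharacter S => χ ∈ principalBlock Mq S)).erase one,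
      (χ : S → ℂ) 1 * conj ((χ : S → ℂ) y)) := by
    refine sum_inv hM2 (tw hm) _ _ _ rfl ?_ ?_ ?_ ?_ ?_
    · intro χ hχ
      obtain ⟨hne, hmem⟩ := Finset.mem_erase.1 hχ
      have hmem' := (Finset.mem_filter.1 hmem).2
      refine Finset.mem_erase.2 ⟨fun h => hne ?_, Finset.mem_filter.2 ⟨Finset.mem_univ _, tw_mem hMq hm hmem'⟩⟩
      rw [← htt χ, h]
      rfl
    · exact fun χ _ => htt χ
    · intro χ _
      show (χ : S → ℂ) (1 ^ m) * conj ((χ : S → ℂ) (y ^ m)) = _
      rw [one_pow, hym]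
    · intro χ _
      have h3 : conj ((χ : S → ℂ) y) = (χ : S → ℂ) y⁻¹ := by
        rw [Characters.Core.isCharacter_apply_inv (Characters.Core.isIrr_isCharacter χ.2)]
      rw [h3]
      exact memLocalRing_mul (FullDefect.memLocalRing_irr χ 1) (FullDefect.memLocalRing_irr χ y⁻¹)
    · intro χ hχ hfx
      obtain ⟨hne, hmem⟩ := Finset.mem_erase.1 hχ
      have hmem' := (Finset.mem_filter.1 hmem).2
      by_cases hd2 : 2 ∣ charDegree (χ : S → ℂ)
      · rw [Blocks.Basic.irr_one_eq_charDegree χ.2]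
        refine memLocalIdeal_mul_right ((memLocalIdeal_natCast_iff hM2 _).2 hd2) ?_
        have h3 : conj ((χ : S → ℂ) y) = (χ : S → ℂ) y⁻¹ := by
          rw [Characters.Core.isCharacter_apply_inv (Characters.Core.isIrr_isCharacter χ.2)]
        rw [h3]
        exact FullDefect.memLocalRing_irr χ y⁻¹
      · exact absurd hfx (hcon χ hmem' (fun h => hne (Subtype.ext h)) hd2)
  have h3 : ((one : IrrCharacter S) : S → ℂ) 1 * conj (((one : IrrCharacter S) : S → ℂ) y) = 1 := by
    show (1 : ℂ) * conj (1 : ℂ) = 1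
    simp
  rw [h3] at h1
  have h4 : MemLocalIdeal M2 (1 : ℂ) := by
    have h5 := memLocalIdeal_neg h2
    rw [← eq_neg_iff_add_eq_zero.2 h1] at h5
    exact h5
  have h6 := (memLocalIdeal_natCast_iff hM2 1).1 (by simpa using h4)
  norm_num at h6

/-- a `ρ`-invariant character of odd degree lies in the principal 2-block -/
theorem mem_two {q : ℕ} (hq : q.Prime) {M2 : Ideal AlgInt} (hM2 : IsPModular 2 M2) {m : ℕ} (hm : m.Coprime (Nat.card S))
    (hm2 : ∀ x : S, ¬ q ∣ orderOf x → x ^ m = x⁻¹) (A : Subgroup S) (hA : IsPGroup 2 A)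
    (hC : ¬ q ∣ Nat.card (centralizer (A : Set S))) {χ : IrrCharacter S} (hχ : tw hm χ = χ)
    (hd : ¬ 2 ∣ charDegree (χ : S → ℂ)) : χ ∈ principalBlock M2 S := by
  classical
  have h2F : Fact (Nat.Prime 2) := ⟨Nat.prime_two⟩
  have hqF : Fact q.Prime := ⟨hq⟩
  have hM2p := isPrime_of_isPModular hM2
  have := Fintype.ofFinite S
  rw [H893.Sd.mem_iff hM2]
  intro h0
  let _ : MulAction A S := MulAction.compHom S ((MulAut.conj : S →* MulAut S).comp A.subtype)
  have hact : ∀ (a : A) (g : S), a • g = (a : S) * g * (a : S)⁻¹ := fun a g => rfl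
  have hcf : ∀ a g : S, (χ : S → ℂ) (a * g * a⁻¹) = (χ : S → ℂ) g := fun a g =>
    Characters.Core.isIrr_isClassFunction χ.2 g a
  have hord : ∀ a g : S, orderOf (a * g * a⁻¹) = orderOf g := fun a g => by
    have := MulEquiv.orderOf_eq (MulAut.conj a) g
    rwa [MulAut.conj_apply] at this
  have h1 := H593.GlaubermanP.sum_fixed hM2 (P := A) (Ω := S) hA (regPart 2 (χ : S → ℂ)) (by
    intro a g
    rw [hact]
    by_cases hg : 2 ∣ orderOf g
    · rw [regPart_of_dvd hg, regPart_of_dvd (by rwa [hord])]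
    · rw [regPart_of_not_dvd hg, regPart_of_not_dvd (by rwa [hord]), hcf]) (by
    intro g
    by_cases hg : 2 ∣ orderOf g
    · rw [regPart_of_dvd hg]
      exact memLocalRing_zero
    · rw [regPart_of_not_dvd hg]
      exact FullDefect.memLocalRing_irr χ g)
  rw [h0, zero_sub] at h1
  have h1' := memLocalIdeal_neg h1
  rw [neg_neg] at h1'
  set X : Finset S := Finset.univ.filter (· ∈ MulAction.fixedPoints A S) with hX
  have hmem : ∀ g : S, g ∈ X ↔ g ∈ centralizer (A : Set S) := by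
    intro g
    rw [hX, Finset.mem_filter, MulAction.mem_fixedPoints, mem_centralizer_iff]
    simp only [Finset.mem_univ, true_and]
    constructor
    · intro h a ha
      have h2 := h ⟨a, ha⟩
      rw [hact] at h2
      exact mul_inv_eq_iff_eq_mul.1 h2
    · intro h a
      rw [hact]
      exact mul_inv_eq_iff_eq_mul.2 (h a a.2)
  have hone : (1 : S) ∈ X := (hmem 1).2 (one_mem _)
  have hreg : ∀ g ∈ X, ¬ q ∣ orderOf g := by
    intro g hg h
    exact hC (h.trans (by
      have h3 := orderOf_dvd_natCard (⟨g, (hmem g).1 hg⟩ : centralizer (A : Set S))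
      rwa [Subgroup.orderOf_mk] at h3))
  rw [← Finset.add_sum_erase _ _ hone] at h1'
  have h2 : MemLocalIdeal M2 (∑ g ∈ X.erase 1, regPart 2 (χ : S → ℂ) g) := by
    refine sum_inv hM2 (fun g : S => g⁻¹) _ _ _ rfl ?_ ?_ ?_ ?_ ?_
    · intro g hg
      obtain ⟨hne, hg'⟩ := Finset.mem_erase.1 hg
      exact Finset.mem_erase.2 ⟨by simpa using hne, (hmem _).2 (inv_mem ((hmem g).1 hg'))⟩
    · exact fun g _ => inv_inv g
    · intro g hg
      have hg' := Finset.mem_of_mem_erase hg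
      by_cases h2g : 2 ∣ orderOf g
      · rw [regPart_of_dvd h2g, regPart_of_dvd (by rwa [orderOf_inv])]
      · rw [regPart_of_not_dvd h2g, regPart_of_not_dvd (by rwa [orderOf_inv]), ← hm2 g (hreg g hg')]
        exact congrFun (congrArg Subtype.val hχ) g
    · intro g hg
      by_cases h2g : 2 ∣ orderOf g
      · rw [regPart_of_dvd h2g]
        exact memLocalRing_zero
      · rw [regPart_of_not_dvd h2g]
        exact FullDefect.memLocalRing_irr χ g
    · intro g hg hfx
      obtain ⟨hne, -⟩ := Finset.mem_erase.1 hg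
      by_cases h2g : 2 ∣ orderOf g
      · rw [regPart_of_dvd h2g]
        exact memLocalIdeal_zero
      · exfalso
        apply h2g
        have h3 : g ^ 2 = 1 := by
          rw [pow_two]
          exact mul_eq_one_iff_eq_inv.2 hfx.symm
        have h4 := (Nat.dvd_prime Nat.prime_two).1 (orderOf_dvd_of_pow_eq_one h3)
        rcases h4 with h4 | h4
        · exact absurd (orderOf_eq_one_iff.1 h4) hne
        · rw [h4]
  have h3 : regPart 2 (χ : S → ℂ) 1 = (charDegree (χ : S → ℂ) : ℂ) := by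
    rw [regPart_of_not_dvd (by rw [orderOf_one]; norm_num), Blocks.Basic.irr_one_eq_charDegree χ.2]
  have h4 := memLocalIdeal_sub h1' h2
  rw [add_sub_cancel_right, h3] at h4
  exact hd ((memLocalIdeal_natCast_iff hM2 _).1 h4)

/-- **the tool** -/
theorem RowRho.of_cyclic {q : ℕ} [Fact q.Prime] (hdvd : q ∣ Nat.card S) (Q : Sylow q S)
    (hQ : IsCyclic (Q : Subgroup S)) (A : Subgroup S) (hA : IsPGroup 2 A)
    (hC : ¬ q ∣ Nat.card (centralizer (A : Set S))) : RowRho q S := by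
  intro M2 Mq hM2 hMq
  have hq : q.Prime := Fact.out
  obtain ⟨m, hm, hm1, hm2⟩ := exists_exp (S := S) hq
  obtain ⟨χ, h1, h2, h3, h4⟩ := exists_rho hq hdvd hMq hM2 hm hm1 hm2
  refine ⟨χ, mem_two hq hM2 hm hm2 A hA hC h4 h3, h1, h2, h3, ?_, ?_⟩
  · refine H734.RB.not_dvd hMq Q hQ ?_ h1
    intro h5
    have h6 := Q.dvd_card_of_dvd_card hdvd
    rw [h5] at h6
    exact hq.one_lt.not_ge (Nat.le_of_dvd one_pos h6)
  · intro n hn1 hn2 g
    rw [pow_ext hq (m := n) (n := m) (fun x hx => by rw [hn1 x hx, hm1 x hx]) (fun x hx => by rw [hn2 x hx, hm2 x hx]) g]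
    exact congrFun (congrArg Subtype.val h4) g

end blocks

end Cfsg.Agent.H723.PB
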